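import Cfsg.Agent.H890.A7.Rel

/-!
# `6.A₇`: the scalar in the relation `(k g k g⁻¹)³ = l g²` is `-1` (helper930)
-/

set_option autoImplicit false
set_option linter.unusedSectionVars false

namespace Cfsg.Agent.H930.A7s

open Cfsg Cfsg.Geo Matrix Cfsg.Agent.H913.N6
open Equiv Equiv.Perm
open Cfsg.Agent.H890.Y3 (r3 r3' g4)
open Cfsg.Agent.H890.A7 (Rel Z6 kk sq_conj eq_one_of L_congr)

theorem conj_kg : ∃ γ : alternatingGroup (Fin 7), γ * kk * γ⁻¹ = (kk * g4) ^ 3 :=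
  ⟨⟨c[0, 2, 6, 3] * c[1, 5], mem_alternatingGroup.2 (by decide)⟩, by decide +kernel⟩

variable {ι : Type} [Fintype ι] [DecidableEq ι] [Nonempty ι] {F : Type*} [Field F] {P : Subgroup (GL ι F)}
  {C : Cov P (alternatingGroup (Fin 7))}

theorem rel_l (hZ : Z6 P) {ω : Fˣ} {a b k g : GL ι F} (h : Rel (-1) ω a b k g) (Lk : C.L k kk) (Lg : C.L g g4)
    {l : Fˣ} (hl : (k * (g * k * g⁻¹)) ^ 3 = sc l * g ^ 2) : l = -1 := by
  have hc : ∀ (c : Fˣ) (x : GL ι F), Commute (sc c) x := fun c x => sc_comm c x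
  obtain ⟨K, hK⟩ : ∃ K, K = g * k * g⁻¹ := ⟨_, rfl⟩
  have hKK : K ^ 2 = sc (-1) := by
    rw [hK, conj_pow, h.k2, ← sc_comm, mul_inv_cancel_right]
  rw [← hK] at hl
  obtain ⟨y, hy⟩ : ∃ y, y = k * K := ⟨_, rfl⟩
  rw [← hy] at hl
  have h11 : (sc (-1) : GL ι F) * sc (-1) = 1 := by rw [← sc_mul]; simp
  have hki : k⁻¹ = sc (-1) * k := by
    rw [inv_eq_iff_mul_eq_one, ← mul_assoc, ← sc_comm, mul_assoc, ← sq, h.k2, h11]
  have hKi : K⁻¹ = sc (-1) * K := by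
    rw [inv_eq_iff_mul_eq_one, ← mul_assoc, ← sc_comm, mul_assoc, ← sq, hKK, h11]
  have hs2 : (g ^ 2) ^ 2 = sc (-1) := by rw [← pow_mul]; exact h.g4
  have hsi : (g ^ 2)⁻¹ = sc (-1) * g ^ 2 := by
    rw [inv_eq_iff_mul_eq_one, ← mul_assoc, ← sc_comm, mul_assoc, ← sq, hs2, h11]
  -- `k y k⁻¹ = y⁻¹`
  have e1 : k * y * k⁻¹ = y⁻¹ := by
    rw [hy, _root_.mul_inv_rev, hki, hKi]
    calc k * (k * K) * (sc (-1) * k) = k ^ 2 * K * (sc (-1) * k) := by rw [sq]; group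
      _ = sc (-1) * K * (sc (-1) * k) := by rw [h.k2]
  have e2 : sc l * (k * g ^ 2 * k⁻¹) = sc l⁻¹ * (g ^ 2)⁻¹ := by
    have h1 : (k * y * k⁻¹) ^ 3 = (y⁻¹) ^ 3 := by rw [e1]
    rw [conj_pow, inv_pow, hl, _root_.mul_inv_rev, ← sc_inv, ← sc_comm l⁻¹] at h1
    rw [← h1, ← mul_assoc, ← mul_assoc, ← mul_assoc, sc_comm l k]
  have e3 : k * g ^ 2 * k⁻¹ = sc (-1) * g ^ 2 := by
    have h1 := h.sk
    have h2 : k * g ^ 2 = sc (-1) * (g ^ 2 * k) := by rw [h1, ← mul_assoc, h11, one_mul]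
    rw [h2, mul_assoc, mul_assoc, mul_inv_cancel, mul_one]
  have hl2 : l ^ 2 = 1 := by
    rw [e3, hsi, ← mul_assoc, ← mul_assoc, ← sc_mul, ← sc_mul] at e2
    have h1 := sc_inj (mul_right_cancel e2)
    have h2 := mul_right_cancel h1
    rw [sq]
    nth_rewrite 2 [h2]
    exact mul_inv_cancel l
  -- `(k g)⁶ = l`
  have e4 : (k * g) ^ 2 = y * g ^ 2 := by
    rw [hy, hK, sq, sq]
    group
  have hcomm : Commute y (g ^ 2) := by
    have h1 : g ^ 2 = sc l⁻¹ * y ^ 3 := by rw [hl, ← mul_assoc, ← sc_mul, inv_mul_cancel, sc_one, one_mul]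
    rw [h1]
    exact (hc _ _).symm.mul_right ((Commute.refl y).pow_right 3)
  have e5 : ((k * g) ^ 3) ^ 2 = sc l := by
    have h1 : ((k * g) ^ 3) ^ 2 = ((k * g) ^ 2) ^ 3 := by rw [← pow_mul, ← pow_mul]
    rw [h1, e4, hcomm.mul_pow, hl, mul_assoc, ← pow_succ', pow_mul' (g ^ 2) 2 2, hs2, ← sc_pow]
    simp
  obtain ⟨c, -, hc3, hc'⟩ := sq_conj hZ Lk h.k2 conj_kg ((Lk.mul Lg).pow 3)
  rw [e5] at hc'
  have h6 := sc_inj hc'
  have h7 : c ^ 2 = 1 := by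
    have : c = -1 * l := by rw [h6, ← mul_assoc]; simp
    rw [this, mul_pow, hl2]
    simp
  rw [h6, eq_one_of hc3 h7, mul_one]

/-- helper825's `L` is `1` -/
theorem rel_L (hZ : Z6 P) {ω : Fˣ} {a b k g : GL ι F} (h : Rel (-1) ω a b k g) (Lk : C.L k kk) (Lg : C.L g g4)
    {L : F} (hL : ((k : Matrix ι ι F) * (g * k * (g * (g * g)))) ^ 3 = L • ((g : Matrix ι ι F) * g)) : L = 1 := by
  obtain ⟨l, hl⟩ := h.r6
  have h1 := rel_l hZ h Lk Lg hl
  subst h1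
  have hg3 : g⁻¹ = sc (-1) * (g * (g * g)) := by
    have h4 : g * (g * (g * g)) = sc (-1) := by rw [← h.g4, pow_succ, pow_succ, sq]; group
    rw [inv_eq_iff_mul_eq_one, ← mul_assoc, ← sc_comm, mul_assoc, h4, ← sc_mul]
    simp
  have h2 : (k * (g * k * (g * (g * g)))) ^ 3 = g * g := by
    have e1 : k * (g * k * g⁻¹) = sc (-1) * (k * (g * k * (g * (g * g)))) := by
      rw [hg3, ← mul_assoc (g * k), ← sc_comm (-1) (g * k), mul_assoc (sc (-1)), ← mul_assoc k, ← sc_comm (-1) k, mul_assoc]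
    rw [e1, (show Commute (sc (-1)) (k * (g * k * (g * (g * g)))) from sc_comm _ _).mul_pow, ← sc_pow, sq] at hl
    have e2 : ((-1 : Fˣ)) ^ 3 = -1 := by rw [pow_succ, sq]; simp
    rw [e2] at hl
    exact mul_left_cancel hl
  have h3 := congrArg (fun z : GL ι F => (z : Matrix ι ι F)) h2
  simp only [Units.val_pow_eq_pow_val, Units.val_mul] at h3
  rw [hL] at h3
  have h4 : (L - 1) • ((g : Matrix ι ι F) * g) = 0 := by rw [sub_smul, h3, one_smul, sub_self]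
  rcases smul_eq_zero.1 h4 with h5 | h5
  · exact sub_eq_zero.1 h5
  · exfalso
    have h6 : (g : Matrix ι ι F) * g * (((g * g : GL ι F)⁻¹ : GL ι F) : Matrix ι ι F) = 1 := by
      rw [← Units.val_mul, ← Units.val_mul, mul_inv_cancel, Units.val_one]
    rw [h5, zero_mul] at h6
    obtain ⟨i⟩ := ‹Nonempty ι›
    have := congrFun (congrFun h6 i) i
    simp at this

end Cfsg.Agent.H930.A7s
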